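import Groth.Agent.L22.Sp.Sheaf
import Groth.Agent.L22.Cyc.FiniteDeg

/-!
The generic fibre of a closed subscheme over a discrete valuation ring.
-/

set_option autoImplicit false
set_option linter.style.haveILetI false
set_option maxSynthPendingDepth 3
set_option backward.isDefEq.respectTransparency.types false
set_option backward.isDefEq.respectTransparency false

universe u

open CategoryTheory CategoryTheory.Limits AlgebraicGeometry IsLocalRing

noncomputable section

namespace Groth.L22.Sp

variable {R : Type u} [CommRing R] [IsDomain R] [IsDiscreteValuationRing R] {X W : Scheme.{u}}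
  (a : X ⟶ Spec (CommRingCat.of R)) (ι : W ⟶ X) [IsClosedImmersion ι]

theorem length_push (z : W) :
    Module.length (X.presheaf.stalk (ι z)) (((Coh.push ι).obj (Coh.structureModule W)).presheaf.stalk (ι z)) =
      Module.length (W.presheaf.stalk z) (W.presheaf.stalk z) := by
  obtain ⟨φ, e, hφ, he, -⟩ := Groth.L22.P1Sub.exists_stalk_equiv ι z (rfl : ι z = ι z)
  letI := φ.toAlgebra
  let el : ((Coh.push ι).obj (Coh.structureModule W)).presheaf.stalk (ι z) ≃ₗ[X.presheaf.stalk (ι z)]
      W.presheaf.stalk z := { e with map_smul' := fun r v => he r v }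
  rw [el.length_eq, Module.length_eq_of_surjective (R := W.presheaf.stalk z) (S := X.presheaf.stalk (ι z)) hφ]

theorem nontrivial_push (z : W) :
    Nontrivial (((Coh.push ι).obj (Coh.structureModule W)).presheaf.stalk (ι z)) := by
  refine not_subsingleton_iff_nontrivial.1 fun h => ?_
  have h1 := length_push ι z
  rw [Module.length_eq_zero_iff.2 h] at h1
  exact not_subsingleton_iff_nontrivial.2 inferInstance (Module.length_eq_zero_iff.1 h1.symm)

theorem nontrivial_of_pullback {Y : Scheme.{u}} (f : Y ⟶ X) {F : X.Modules} {y : Y}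
    (h : Nontrivial (((Scheme.Modules.pullback f).obj F).presheaf.stalk y)) : Nontrivial (F.presheaf.stalk (f y)) := by
  refine not_subsingleton_iff_nontrivial.1 fun hs => not_subsingleton_iff_nontrivial.2 h ?_
  letI := (f.stalkMap y).hom.toAlgebra
  let el : ((Scheme.Modules.pullback f).obj F).presheaf.stalk y ≃ₗ[Y.presheaf.stalk y]
      TensorProduct (X.presheaf.stalk (f y)) (Y.presheaf.stalk y) (F.presheaf.stalk (f y)) :=
    ((Groth.L00.PullStalk.stalkIso f y).app F).toLinearEquiv
  exact el.toEquiv.subsingleton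

theorem stalkMap_fst_bijective (w : ↥(pullback ι (a.fiberι (eta R)))) :
    Function.Bijective ((pullback.fst ι (a.fiberι (eta R))).stalkMap w).hom := by
  let e : pullback ι (a.fiberι (eta R)) ≅ (ι ≫ a).fiber (eta R) :=
    pullbackRightPullbackFstIso a ((Spec (CommRingCat.of R)).fromSpecResidueField (eta R)) ι
  have h : pullback.fst ι (a.fiberι (eta R)) = e.hom ≫ (ι ≫ a).fiberι (eta R) :=
    (pullbackRightPullbackFstIso_hom_fst _ _ _).symm
  have key : ∀ {f : pullback ι (a.fiberι (eta R)) ⟶ W}, f = e.hom ≫ (ι ≫ a).fiberι (eta R) →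
      Function.Bijective (f.stalkMap w).hom := by
    rintro f rfl
    rw [Scheme.Hom.stalkMap_comp, CommRingCat.hom_comp, RingHom.coe_comp]
    exact (ConcreteCategory.bijective_of_isIso (e.hom.stalkMap w)).comp
      ⟨(RingHom.injective_iff_ker_eq_bot _).2 (ker_stalkMap_eta (ι ≫ a) _),
        ((ι ≫ a).fiberι (eta R)).stalkMap_surjective _⟩
  exact key h

theorem subschemeFun_eta (δ : ↥(a.fiber (eta R)) → ℤ) (r : ℤ) :
    Cyc.subschemeFun δ r (pullback.snd ι (a.fiberι (eta R))) =
      Cyc.sheafFun δ r ((Scheme.Modules.pullback (a.fiberι (eta R))).obj ((Coh.push ι).obj (Coh.structureModule W))) := by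
  funext x
  unfold Cyc.subschemeFun Cyc.sheafFun
  split_ifs with hr
  swap
  · rfl
  by_cases hx : x ∈ Set.range (pullback.snd ι (a.fiberι (eta R)))
  · obtain ⟨w, rfl⟩ := hx
    have hs : {w' : ↥(pullback ι (a.fiberι (eta R))) | pullback.snd ι (a.fiberι (eta R)) w' =
        pullback.snd ι (a.fiberι (eta R)) w} = {w} := by
      ext w'
      exact ⟨fun h => (pullback.snd ι (a.fiberι (eta R))).isClosedEmbedding.injective h,
        fun h => by rw [Set.mem_singleton_iff] at h; exact congrArg _ h⟩
    have e : ι (pullback.fst ι (a.fiberι (eta R)) w) = a.fiberι (eta R) (pullback.snd ι (a.fiberι (eta R)) w) :=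
      congrArg (fun φ : pullback ι (a.fiberι (eta R)) ⟶ X => φ w) pullback.condition
    rw [hs, finsum_mem_singleton, length_stalk_eta, ← e, length_push,
      Groth.L22.Cyc.length_self_of_ringEquiv (RingEquiv.ofBijective _ (stalkMap_fst_bijective a ι w))]
  · have hs : {w' : ↥(pullback ι (a.fiberι (eta R))) | pullback.snd ι (a.fiberι (eta R)) w' = x} = ∅ :=
      Set.eq_empty_of_forall_notMem fun w' h => hx ⟨w', h⟩
    haveI : Subsingleton (((Scheme.Modules.pullback (a.fiberι (eta R))).obj
        ((Coh.push ι).obj (Coh.structureModule W))).presheaf.stalk x) :=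
      not_nontrivial_iff_subsingleton.1 fun h => hx (by
        rw [Scheme.Pullback.range_snd]
        exact Groth.L22.P1Sub.mem_range_of_nontrivial_push ι (nontrivial_of_pullback _ h))
    rw [hs, Module.length_eq_zero]
    simp

end Groth.L22.Sp
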