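import Groth.Agent.L22.Sp.Basic
import Groth.Agent.L22.C1.GysinBC

/-!
Specialisation commutes with proper pushforward and flat pullback.
-/

set_option autoImplicit false
set_option linter.style.haveILetI false
set_option linter.unusedSectionVars false
set_option maxSynthPendingDepth 3
set_option backward.isDefEq.respectTransparency.types false
set_option backward.isDefEq.respectTransparency false

universe u

open CategoryTheory CategoryTheory.Limits AlgebraicGeometry IsLocalRing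

noncomputable section

namespace Groth.L22.Sp

open Groth.L22.C1 (mk IsGen pullSec)

variable {R : Type u} [CommRing R] [IsDomain R] [IsDiscreteValuationRing R] {X Y : Scheme.{u}}
  (f : X ⟶ Y) (b : Y ⟶ Spec (CommRingCat.of R))

theorem piSec_comp : piSec (f ≫ b) = f.appTop.hom (piSec b) := by
  rw [piSec, piSec, Scheme.Hom.comp_appTop]
  rfl

theorem pi_comp (t : X) : pi (f ≫ b) t = (f.stalkMap t).hom (pi b (f t)) := by
  show _ = f.stalkMap t (Y.presheaf.germ ⊤ (f t) trivial (piSec b))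
  rw [Scheme.Hom.germ_stalkMap_apply, pi, piSec_comp]
  rfl

theorem deltaCompat_trans {Z : Scheme.{u}} (g : Y ⟶ Z) {δX : X → ℤ} {δY : Y → ℤ} {δZ : Z → ℤ}
    (hf : Cyc.DeltaCompat f δX δY) (hg : Cyc.DeltaCompat g δY δZ) : Cyc.DeltaCompat (f ≫ g) δX δZ := by
  intro x
  obtain ⟨n, hn, hd⟩ := hf x
  obtain ⟨m, hm, hdm⟩ := hg (f x)
  refine ⟨m + n, ?_, ?_⟩
  · show Groth.L22.Cyc.rtrdeg (f ≫ g) x = _
    rw [Groth.L22.Cyc.rtrdeg_comp, show Groth.L22.Cyc.rtrdeg f x = n from hn,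
      show Groth.L22.Cyc.rtrdeg g (f x) = m from hm, Nat.cast_add]
  · rw [hd, hdm]
    push_cast
    exact (add_assoc _ _ _).trans rfl

variable [IsLocallyNoetherian X] [IsLocallyNoetherian Y] {δX : X → ℤ} {δY : Y → ℤ}
  (hdX : Cyc.IsDimFun X δX) (hdY : Cyc.IsDimFun Y δY)

theorem choice_ne_zero (ξ : Y) : choice b ξ ≠ 0 :=
  Groth.L22.C1.gysinChoice_ne_zero _ _ (fun ξ => Groth.L22.C1.mk_gen_ne_zero
    (Groth.L18.Ample.isInvertible_structureModule Y) (isGen_oneGerm ξ)) ξ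

include hdX in
theorem secDiv_pull (t x : X) (ht : b (f t) = eta R) :
    Cyc.secDivFun δX ((Scheme.Modules.pullback f).obj (Coh.structureModule Y)) t (pullSec f (choice b) t) x =
      Cyc.secDivFun δX (Coh.structureModule X) t (choice (f ≫ b) t) x := by
  rw [choice_eta (f ≫ b) ht, secDiv_eq (f ≫ b) hdX]
  unfold Cyc.secDivFun Cyc.divFun
  split_ifs with hc
  swap
  · rfl
  have hO := Groth.L18.Ample.isInvertible_structureModule Y
  have hL' := Groth.L18.Ample.isInvertible_pullback f hO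
  have h : f t ⤳ f x := hc.1.map f.continuous
  obtain ⟨a, ha, h2⟩ := Groth.L22.C1.exists_pullSec_eq f hO hL' (choice b) h (isGen_oneGerm (f x))
  rw [h2 t rfl, ← Groth.L22.C1.pm_specializes f _ hc.1 rfl rfl h,
    Groth.L22.C1.secOrdAt_gen hdX hL' hc.1 hc.2 (Groth.L22.C1.isGen_pm f hO x rfl (isGen_oneGerm (f x)))]
  have hres : Y.residue (f t) (pi b (f t)) = Y.residue (f t) a := by
    refine Groth.L22.C1.smul_mk_inj hO ((isGen_oneGerm (f x)).specializes hO h) ?_
    rw [← ha, choice_eta b ht, germ_sec, oneGerm_specializes h]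
    exact (Submodule.Quotient.mk_smul _ _ _).symm
  rw [Groth.L22.C1.residue_fibMap f rfl a, ← hres, ← Groth.L22.C1.residue_fibMap f rfl, pi_comp]
  congr 2
  show f.stalkMap t (Y.presheaf.stalkSpecializes _ (pi b (f t))) = _
  rw [TopCat.Presheaf.stalkSpecializes_refl]
  rfl

include hdX in
theorem c1Cap_pull (G : X → ℤ) (hG : ∀ t, G t ≠ 0 → b (f t) = eta R) :
    Cyc.c1CapFun δX ((Scheme.Modules.pullback f).obj (Coh.structureModule Y)) G (pullSec f (choice b)) =
      Cyc.c1CapFun δX (Coh.structureModule X) G (choice (f ≫ b)) := by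
  funext x
  refine finsum_congr fun t => ?_
  by_cases h : G t = 0
  · rw [h, zero_mul, zero_mul]
  · rw [secDiv_pull f b hdX t x (hG t h)]

omit [IsLocallyNoetherian X] [IsLocallyNoetherian Y] in
theorem residueDegree_fibre {A B : Scheme.{u}} (g : A ⟶ B) (jA : A ⟶ X) [IsPreimmersion jA] (jB : B ⟶ Y)
    [IsPreimmersion jB] (hsq : g ≫ jB = jA ≫ f) (z : A) : g.residueDegree z = f.residueDegree (jA z) := by
  have h := Groth.L22.Cyc.residueDegree_congr _ hsq z
  rw [Groth.L22.Cyc.residueDegree_comp, Groth.L22.Cyc.residueDegree_comp,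
    Groth.L22.Cyc.residueDegree_eq_one jA _ (Groth.L22.FibreDim.residueFieldMap_bijective jA z),
    Groth.L22.Cyc.residueDegree_eq_one jB _ (Groth.L22.FibreDim.residueFieldMap_bijective jB (g z)),
    one_mul, mul_one] at h
  exact h

omit [IsLocallyNoetherian X] [IsLocallyNoetherian Y] in
/-- Push forward read on a fibre. -/
theorem map_fibre [LocallyOfFiniteType f] (hδ : Cyc.DeltaCompat f δX δY) [QuasiCompact f] {A B : Scheme.{u}}
    (g : A ⟶ B) [LocallyOfFiniteType g] [QuasiCompact g] (jA : A ⟶ X) [IsPreimmersion jA] (jB : B ⟶ Y)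
    [IsPreimmersion jB] (hsq : g ≫ jB = jA ≫ f) {δA : A → ℤ} {δB : B → ℤ} (hδg : Cyc.DeltaCompat g δA δB)
    (γ : AlgebraicCycle X ℤ) (μ : AlgebraicCycle A ℤ) (hμ : ∀ z, μ z = γ (jA z)) (d : B)
    (hran : ∀ x, f x = jB d → x ∈ Set.range jA) :
    AlgebraicCycle.map f δX δY γ (jB d) = AlgebraicCycle.map g δA δB μ d := by
  show (∑ᶠ x ∈ f ⁻¹' {jB d}, γ x * ((AlgebraicCycle.mapCoeff f δX δY x : ℕ) : ℤ)) =
    ∑ᶠ z ∈ g ⁻¹' {d}, μ z * ((AlgebraicCycle.mapCoeff g δA δB z : ℕ) : ℤ)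
  have hpt : ∀ z, jB (g z) = f (jA z) := fun z => by
    rw [← Scheme.Hom.comp_apply, hsq, Scheme.Hom.comp_apply]
  have himg : f ⁻¹' {jB d} = jA '' (g ⁻¹' {d}) := by
    ext x
    constructor
    · intro hx
      obtain ⟨z, rfl⟩ := hran x hx
      exact ⟨z, jB.isEmbedding.injective ((hpt z).trans hx), rfl⟩
    · rintro ⟨z, hz, rfl⟩
      show f (jA z) = jB d
      rw [← hpt, show g z = d from hz]
  rw [himg, finsum_mem_image (jA.isEmbedding.injective.injOn)]
  refine finsum_mem_congr rfl fun z _ => ?_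
  rw [hμ, Groth.L22.Cyc.mapCoeff_eq g hδg, Groth.L22.Cyc.mapCoeff_eq f hδ,
    residueDegree_fibre f g jA jB hsq z]

omit [IsLocallyNoetherian X] [IsLocallyNoetherian Y] in
/-- Fibre multiplicities on a fibre. -/
theorem mult_fibre {A B : Scheme.{u}} (g : A ⟶ B) (jA : A ⟶ X) [IsPreimmersion jA] (jB : B ⟶ Y)
    [IsPreimmersion jB] (hsq : g ≫ jB = jA ≫ f) (z : A)
    (hker : RingHom.ker (jA.stalkMap z).hom ≤ Groth.L22.Cyc.fibIdeal f (jA z)) :
    Groth.L22.Cyc.mult g z = Groth.L22.Cyc.mult f (jA z) := by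
  have hsurj : Function.Surjective (jA.stalkMap z).hom := jA.stalkMap_surjective z
  have e1 : Groth.L22.Cyc.fibIdeal g z = (Groth.L22.Cyc.fibIdeal f (jA z)).map (jA.stalkMap z).hom := by
    refine ((Groth.L07.AssTensor.fibIdeal_comp g jB z).symm.trans
      (Groth.L07.AssTensor.fibIdeal_congr hsq z)).trans ?_
    show Ideal.map ((jA ≫ f).stalkMap z).hom _ = _
    rw [Scheme.Hom.stalkMap_comp, CommRingCat.hom_comp, ← Ideal.map_map]
    rfl
  show Module.length _ _ = Module.length _ _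
  rw [e1]
  letI := (jA.stalkMap z).hom.toAlgebra
  have hs : Function.Surjective (algebraMap (X.presheaf.stalk (jA z)) (A.presheaf.stalk z)) := hsurj
  rw [← Module.length_eq_of_surjective (R := A.presheaf.stalk z) (S := X.presheaf.stalk (jA z)) hs]
  refine ((Submodule.quotEquivOfEq _ _ ?_).trans (((Ideal.Quotient.mkₐ (X.presheaf.stalk (jA z))
    ((Groth.L22.Cyc.fibIdeal f (jA z)).map (jA.stalkMap z).hom)).toLinearMap ∘ₗ
    Algebra.linearMap _ _).quotKerEquivOfSurjective (Ideal.Quotient.mk_surjective.comp hs))).length_eq.symm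
  ext a
  rw [LinearMap.mem_ker]
  show a ∈ _ ↔ Ideal.Quotient.mk _ ((jA.stalkMap z).hom a) = 0
  rw [Ideal.Quotient.eq_zero_iff_mem, ← Ideal.mem_comap, Ideal.comap_map_of_surjective' _ hsurj, sup_eq_left.2 hker]

/-- A cycle of the generic fibre, extended to the whole scheme. -/
theorem exists_extend (a : X ⟶ Spec (CommRingCat.of R))
    (α : AlgebraicCycle (a.fiber (eta R)) ℤ) :
    ∃ β : AlgebraicCycle X ℤ, (∀ ζ, β (a.fiberι (eta R) ζ) = α ζ) ∧ ∀ ξ, β ξ ≠ 0 → a ξ = eta R ∧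
      ∃ ζ, a.fiberι (eta R) ζ = ξ ∧ α ζ ≠ 0 := by
  classical
  haveI : QuasiCompact (a.fiberι (eta R)) :=
    MorphismProperty.pullback_fst _ _ (inferInstanceAs
      (QuasiCompact ((Spec (CommRingCat.of R)).fromSpecResidueField (eta R))))
  let F : X → ℤ := Function.extend (a.fiberι (eta R)) (fun ζ => α ζ) 0
  have hinj : Function.Injective (a.fiberι (eta R)) := (a.fiberι (eta R)).isEmbedding.injective
  have hF : ∀ ξ, F ξ ≠ 0 → ∃ ζ, a.fiberι (eta R) ζ = ξ ∧ α ζ ≠ 0 := fun ξ h => by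
    by_cases hξ : ∃ ζ, a.fiberι (eta R) ζ = ξ
    · obtain ⟨ζ, rfl⟩ := hξ
      exact ⟨ζ, rfl, by rwa [show F (a.fiberι (eta R) ζ) = α ζ from hinj.extend_apply _ _ _] at h⟩
    · exact absurd (Function.extend_apply' (g := fun ζ => α ζ) (e' := (0 : X → ℤ)) ξ hξ) h
  obtain ⟨β, hβ⟩ := Groth.L22.C1.exists_cycle F fun x => by
    obtain ⟨V, hV, hxV, -⟩ := exists_isAffineOpen_mem_and_subset (x := x) (U := ⊤) trivial
    refine ⟨V, hxV, ((α.locallyFiniteSupport.finite_inter_support_of_isCompact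
      ((a.fiberι (eta R)).isCompact_preimage hV.isCompact)).image (a.fiberι (eta R))).subset ?_⟩
    rintro ξ ⟨h, hξV⟩
    obtain ⟨ζ, rfl, h'⟩ := hF ξ h
    exact ⟨ζ, ⟨hξV, h'⟩, rfl⟩
  refine ⟨β, fun ζ => by rw [hβ]; exact hinj.extend_apply _ _ _, fun ξ h => ?_⟩
  rw [hβ] at h
  obtain ⟨ζ, rfl, h'⟩ := hF ξ h
  exact ⟨Groth.L22.Cyc.fromSpec_fiber_apply a (eta R) ζ, ζ, rfl, h'⟩

end Groth.L22.Sp
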