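import Groth.Agent.L22.C1.GysinSheaf
import Groth.Agent.L22.Cyc.Setup
import Groth.Agent.L22.Cyc.PushPull
import Groth.Agent.L22.Bundle.Immersion
import Groth.Agent.L22.Bundle.SpecStalk
import Groth.Agent.L22.WeakAssPoints
import Groth.Agent.L06.DimLftJacobson
import Groth.Agent.L21.RefK.Chi
import Groth.Agent.L18.FiberStalk
import Groth.Agent.L18.Ample
import Mathlib.RingTheory.DiscreteValuationRing.Basic

/-!
Specialisation of cycles over a discrete valuation ring as a Gysin map.
-/

set_option autoImplicit false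
set_option linter.style.haveILetI false
set_option maxSynthPendingDepth 3
set_option backward.isDefEq.respectTransparency.types false
set_option backward.isDefEq.respectTransparency false

universe u

open CategoryTheory CategoryTheory.Limits AlgebraicGeometry IsLocalRing

noncomputable section

namespace Groth.L22.Sp

open Groth.L22.Bundle (gS gS_mem_iff gS_maximal)
open Groth.L22.C1 (mk IsGen)

variable (R : Type u) [CommRing R] [IsDomain R] [IsDiscreteValuationRing R]

/-- The generic point. -/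
abbrev eta : ↥(Spec (CommRingCat.of R)) := genericPoint ↥(Spec (CommRingCat.of R))

/-- The closed point. -/
abbrev sp : ↥(Spec (CommRingCat.of R)) := closedPoint R

theorem eta_asIdeal : (eta R).asIdeal = ⊥ := by
  rw [eta, genericPoint_eq_bot_of_affine]
  rfl

theorem point_cases (p : ↥(Spec (CommRingCat.of R))) : p = eta R ∨ p = sp R := by
  rcases eq_or_ne p.asIdeal ⊥ with h | h
  · exact Or.inl (PrimeSpectrum.ext (h.trans (eta_asIdeal R).symm))
  · haveI := p.2.isMaximal h
    exact Or.inr (PrimeSpectrum.ext (IsLocalRing.eq_maximalIdeal inferInstance))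

theorem sp_ne_eta : sp R ≠ eta R := fun h =>
  IsDiscreteValuationRing.not_a_field R ((congrArg PrimeSpectrum.asIdeal h).trans (eta_asIdeal R))

/-- The dimension function of the base. -/
def dR (p : ↥(Spec (CommRingCat.of R))) : ℤ := by
  classical exact if p = sp R then 0 else 1

theorem dR_sp : dR R (sp R) = 0 := by simp [dR]

theorem dR_eta : dR R (eta R) = 1 := if_neg fun h => sp_ne_eta R h.symm

theorem isSetup_base : Cyc.IsSetup (Spec (CommRingCat.of R)) (dR R) := by
  refine ⟨inferInstance, fun x => ?_, fun x y hxy hne => ?_⟩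
  · haveI : IsRegularLocalRing ((Spec (CommRingCat.of R)).presheaf.stalk x) := by
      rcases point_cases R x with rfl | rfl
      · letI : Field ((Spec (CommRingCat.of R)).presheaf.stalk (eta R)) :=
          inferInstanceAs (Field (Spec (CommRingCat.of R)).functionField)
        infer_instance
      · haveI : IsLocalization.AtPrime R (sp R).asIdeal :=
          IsLocalization.of_le_isUnit fun r hr => IsLocalRing.notMem_maximalIdeal.1 hr
        exact IsRegularLocalRing.of_ringEquiv
          ((IsLocalization.algEquiv (sp R).asIdeal.primeCompl R (Localization.AtPrime (sp R).asIdeal)).toRingEquiv.trans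
            (Spec.stalkIso (CommRingCat.of R) (sp R)).commRingCatIsoToRingEquiv.symm)
    exact Groth.L06.DimLftJacobson.isUniversallyCatenary_of_regularLocal _
  · rcases point_cases R x with rfl | rfl <;> rcases point_cases R y with rfl | rfl
    · exact absurd rfl hne
    · rw [dR_eta, dR_sp]; exact ⟨zero_lt_one, fun _ => rfl⟩
    · exact absurd ((IsClosed.stableUnderSpecialization ((PrimeSpectrum.isClosed_singleton_iff_isMaximal _).2
        (IsLocalRing.maximalIdeal.isMaximal R))) hxy rfl).symm hne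
    · exact absurd rfl hne

/-- A uniformizer. -/
def unif : R := Classical.choose (IsDiscreteValuationRing.exists_irreducible R)

theorem maximalIdeal_eq : maximalIdeal R = Ideal.span {unif R} :=
  (IsDiscreteValuationRing.irreducible_iff_uniformizer _).1
    (Classical.choose_spec (IsDiscreteValuationRing.exists_irreducible R))

variable {R} {X : Scheme.{u}} (a : X ⟶ Spec (CommRingCat.of R))

/-- The uniformizer as a function on `X`. -/
def piSec : Γ(X, (⊤ : X.Opens)) :=
  a.appTop.hom ((Scheme.ΓSpecIso (CommRingCat.of R)).inv.hom (unif R))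

/-- The germ of the uniformizer. -/
def pi (x : X) : X.presheaf.stalk x := X.presheaf.germ ⊤ x trivial (piSec a)

theorem pi_eq (x : X) : pi a x = (a.stalkMap x).hom (gS (a x) (unif R)) := by
  show _ = a.stalkMap x ((Spec (CommRingCat.of R)).presheaf.germ ⊤ (a x) trivial
    ((Scheme.ΓSpecIso (CommRingCat.of R)).inv (unif R)))
  rw [Scheme.Hom.germ_stalkMap_apply]
  rfl

theorem pi_mem_iff (x : X) : pi a x ∈ maximalIdeal (X.presheaf.stalk x) ↔ a x = sp R := by
  rw [pi_eq, mem_maximalIdeal, mem_nonunits_iff, isUnit_map_iff, ← mem_nonunits_iff, ← mem_maximalIdeal, gS_mem_iff]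
  constructor
  · intro h
    refine (point_cases R (a x)).resolve_left fun e => ?_
    rw [e, eta_asIdeal, Ideal.mem_bot] at h
    exact (Classical.choose_spec (IsDiscreteValuationRing.exists_irreducible R)).ne_zero h
  · intro h
    rw [h]
    show unif R ∈ maximalIdeal R
    rw [maximalIdeal_eq]
    exact Ideal.mem_span_singleton_self _

theorem residue_pi_eq_zero_iff (x : X) : X.residue x (pi a x) = 0 ↔ a x = sp R :=
  (IsLocalRing.residue_eq_zero_iff _).trans (pi_mem_iff a x)

theorem pi_specializes {x ξ : X} (h : ξ ⤳ x) : X.presheaf.stalkSpecializes h (pi a x) = pi a ξ :=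
  TopCat.Presheaf.germ_stalkSpecializes_apply _ _ _ _

theorem map_maximal {x : X} (hx : a x = sp R) :
    (maximalIdeal ((Spec (CommRingCat.of R)).presheaf.stalk (a x))).map (a.stalkMap x).hom =
      Ideal.span {pi a x} := by
  have e : (a x).asIdeal = Ideal.span {unif R} := by rw [hx]; exact maximalIdeal_eq R
  rw [← gS_maximal (a x), e, Ideal.map_span, Set.image_singleton, Ideal.map_span, Set.image_singleton, ← pi_eq]

theorem map_maximal_eta {x : X} (hx : a x = eta R) :
    (maximalIdeal ((Spec (CommRingCat.of R)).presheaf.stalk (a x))).map (a.stalkMap x).hom = ⊥ := by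
  have e : (a x).asIdeal = ⊥ := by rw [hx]; exact eta_asIdeal R
  rw [← gS_maximal (a x), e, Ideal.map_bot, Ideal.map_bot]

theorem oneGerm_specializes {x ξ : X} (h : ξ ⤳ x) :
    (Coh.structureModule X).presheaf.stalkSpecializes h (Groth.L22.oneGerm x) = Groth.L22.oneGerm ξ :=
  TopCat.Presheaf.germ_stalkSpecializes_apply _ _ _ _

theorem isGen_oneGerm (x : X) : IsGen (Coh.structureModule X) (Groth.L22.oneGerm x) :=
  Submodule.eq_top_iff'.2 fun v =>
    Submodule.mem_span_singleton.2 (Groth.L22.stalk_smul_oneGerm_surjective x v)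

/-- The section of the structure module. -/
def sec : (Coh.structureModule X).presheaf.obj (Opposite.op ⊤) := Groth.L22.unitSec (piSec a)

theorem germ_sec (x : X) :
    (Coh.structureModule X).presheaf.germ ⊤ x trivial (sec a) = pi a x • Groth.L22.oneGerm x :=
  (Groth.L22.germ_smul_oneGerm (x := x) (U := ⊤) trivial (piSec a)).symm

theorem mk_sec_eq_zero_iff (x : X) :
    mk (Coh.structureModule X) ((Coh.structureModule X).presheaf.germ ⊤ x trivial (sec a)) = 0 ↔ a x = sp R := by
  rw [germ_sec, Groth.L22.C1.mk_smul_eq_zero_iff (Groth.L18.Ample.isInvertible_structureModule X)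
    (isGen_oneGerm x), residue_pi_eq_zero_iff]

theorem isClosedImmersion_fiberι : IsClosedImmersion (a.fiberι (sp R)) := by
  have hc : IsClosed ({sp R} : Set ↥(Spec (CommRingCat.of R))) :=
    (PrimeSpectrum.isClosed_singleton_iff_isMaximal _).2 (IsLocalRing.maximalIdeal.isMaximal R)
  haveI : IsClosedImmersion ((Spec (CommRingCat.of R)).fromSpecResidueField (sp R)) :=
    IsClosedImmersion.of_isPreimmersion _ (by rw [Scheme.range_fromSpecResidueField]; exact hc)
  show IsClosedImmersion (pullback.fst _ _)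
  infer_instance

theorem isZeroSchemeOf : Cyc.IsZeroSchemeOf (a.fiberι (sp R)) (Coh.structureModule X) (sec a) := by
  refine ⟨Set.ext fun x => ?_, fun d => ?_⟩
  · rw [a.range_fiberι]
    exact (mk_sec_eq_zero_iff a x).symm
  · refine ⟨Groth.L22.oneGerm _, pi a _, isGen_oneGerm _, germ_sec a _, ?_⟩
    rw [(Groth.L18.stalkMap_fiberι a (sp R) d).2]
    exact map_maximal a (Groth.L22.Cyc.fromSpec_fiber_apply a (sp R) d)

/-- The stalk of a restriction along a preimmersion with trivial kernel on the stalk. -/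
theorem length_stalk_pullback_of_bot {D : Scheme.{u}} (i : D ⟶ X) [IsPreimmersion i] (F : X.Modules) (d : D)
    (hker : RingHom.ker (i.stalkMap d).hom = ⊥) :
    Module.length (D.presheaf.stalk d) (((Scheme.Modules.pullback i).obj F).presheaf.stalk d) =
      Module.length (X.presheaf.stalk (i d)) (F.presheaf.stalk (i d)) := by
  letI := (i.stalkMap d).hom.toAlgebra
  have hsurj : Function.Surjective (algebraMap (X.presheaf.stalk (i d)) (D.presheaf.stalk d)) :=
    i.stalkMap_surjective d
  let el : ((Scheme.Modules.pullback i).obj F).presheaf.stalk d ≃ₗ[D.presheaf.stalk d]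
      TensorProduct (X.presheaf.stalk (i d)) (D.presheaf.stalk d) (F.presheaf.stalk (i d)) :=
    ((Groth.L00.PullStalk.stalkIso i d).app F).toLinearEquiv
  let e1 : X.presheaf.stalk (i d) ≃ₗ[X.presheaf.stalk (i d)] D.presheaf.stalk d :=
    LinearEquiv.ofBijective (Algebra.linearMap (X.presheaf.stalk (i d)) (D.presheaf.stalk d))
      ⟨(RingHom.injective_iff_ker_eq_bot (i.stalkMap d).hom).2 hker, hsurj⟩
  rw [el.length_eq, ← Module.length_eq_of_surjective (R := D.presheaf.stalk d) (S := X.presheaf.stalk (i d)) hsurj]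
  exact ((TensorProduct.congr e1.symm (LinearEquiv.refl _ _)).trans (TensorProduct.lid _ _)).length_eq

theorem ker_stalkMap_eta (z : ↥(a.fiber (eta R))) :
    RingHom.ker ((a.fiberι (eta R)).stalkMap z).hom = ⊥ := by
  rw [(Groth.L18.stalkMap_fiberι a (eta R) z).2]
  exact map_maximal_eta a (Groth.L22.Cyc.fromSpec_fiber_apply a (eta R) z)

section Dim

variable {δ : X → ℤ} (hδ : Cyc.DeltaCompat a δ (dR R))

include hδ in
theorem delta_fiber (p : ↥(Spec (CommRingCat.of R))) {δp : ↥(a.fiber p) → ℤ}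
    (hp : Cyc.DeltaCompat (a.fiberToSpecResidueField p) δp (fun _ => 0)) (z : ↥(a.fiber p)) :
    δ (a.fiberι p z) = δp z + dR R p := by
  haveI : IsPreimmersion (a.fiberι p) := inferInstance
  obtain ⟨n, hn, e⟩ := hδ (a.fiberι p z)
  obtain ⟨n', hn', e'⟩ := hp z
  have hap : a (a.fiberι p z) = p := Groth.L22.Cyc.fromSpec_fiber_apply a p z
  have h1 : Groth.L22.Cyc.rtrdeg (a.fiberι p ≫ a) z = (n : Cardinal.{u}) := by
    rw [Groth.L22.Cyc.rtrdeg_comp, Groth.L22.Bundle.rtrdeg_eq_zero (a.fiberι p), add_zero]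
    exact hn
  rw [show a.fiberι p ≫ a = a.fiberToSpecResidueField p ≫ (Spec (CommRingCat.of R)).fromSpecResidueField p
    from pullback.condition, Groth.L22.Cyc.rtrdeg_comp,
    Groth.L22.Bundle.rtrdeg_eq_zero ((Spec (CommRingCat.of R)).fromSpecResidueField p), zero_add] at h1
  have : n' = n := Nat.cast_injective (R := Cardinal.{u}) (hn'.symm.trans h1)
  rw [hap] at e
  change δp z = 0 + (n' : ℤ) at e'
  omega

variable [IsLocallyNoetherian X] (hd : Cyc.IsDimFun X δ)

include hd in
theorem secDiv_eq (ξ x : X) :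
    Cyc.secDivFun δ (Coh.structureModule X) ξ
        (mk _ ((Coh.structureModule X).presheaf.germ ⊤ ξ trivial (sec a))) x =
      Cyc.divFun δ ξ (X.residue ξ (pi a ξ)) x := by
  unfold Cyc.secDivFun Cyc.divFun
  split_ifs with h
  · rw [germ_sec, ← oneGerm_specializes h.1]
    exact (congrArg (Cyc.secOrdAt _ ξ x h.1) (Submodule.Quotient.mk_smul _ _ _)).trans
      (Groth.L22.C1.secOrdAt_gen hd (Groth.L18.Ample.isInvertible_structureModule X) h.1 h.2
        (isGen_oneGerm x) (pi a ξ))
  · rfl

/-- The choice of sections. -/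
def choice : (ξ : X) → Cyc.secFibre (Coh.structureModule X) ξ :=
  Cyc.gysinChoice (Coh.structureModule X) (sec a) fun ξ => mk _ (Groth.L22.oneGerm ξ)

theorem choice_eta {ξ : X} (h : a ξ = eta R) :
    choice a ξ = mk _ ((Coh.structureModule X).presheaf.germ ⊤ ξ trivial (sec a)) :=
  if_pos fun h0 => sp_ne_eta R (((mk_sec_eq_zero_iff a ξ).1 h0).symm.trans h)

/-- The length in the specialisation map is the order of the uniformizer. -/
theorem ordAt_pi {ξ y : X} (h : ξ ⤳ y) (hd1 : δ y + 1 = δ ξ) (hy : a y = sp R) (hξ : a ξ = eta R)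
    (hd : Cyc.IsDimFun X δ) :
    ((Module.length (X.presheaf.stalk y) (Cyc.LocQuot y ξ h ⧸
        (maximalIdeal ((Spec (CommRingCat.of R)).presheaf.stalk (a y))).map
          ((Ideal.Quotient.mk (RingHom.ker (Cyc.specMap y ξ h))).comp (a.stalkMap y).hom))).toNat : ℤ) =
      Cyc.ordAt y ξ h (X.residue ξ (pi a ξ)) := by
  have hne : Cyc.specMap y ξ h (pi a y) ≠ 0 := by
    rw [Groth.L22.Cyc.specMap_eq_residue, pi_specializes, Ne, residue_pi_eq_zero_iff, hξ]
    exact (sp_ne_eta R).symm
  have h5 := Groth.L22.Cyc.ordAt_div_gen hd y ξ h hd1 (a := pi a y) (b := 1) hne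
    (by rw [map_one]; exact one_ne_zero)
  rw [map_one, div_one, map_one, Ring.ord_one, Groth.L22.Cyc.specMap_eq_residue, pi_specializes] at h5
  rw [h5, ← Ideal.map_map, map_maximal a hy, Ideal.map_span, Set.image_singleton,
    Module.length_eq_of_surjective (R := Cyc.LocQuot y ξ h) (S := X.presheaf.stalk y) Ideal.Quotient.mk_surjective]
  simp [Ring.ord]

include hd hδ in
/-- Specialisation is the Gysin map of the uniformizer. -/
theorem spFun_eq {δη : ↥(a.fiber (eta R)) → ℤ} {δs : ↥(a.fiber (sp R)) → ℤ}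
    (hη : Cyc.DeltaCompat (a.fiberToSpecResidueField (eta R)) δη (fun _ => 0))
    (hs : Cyc.DeltaCompat (a.fiberToSpecResidueField (sp R)) δs (fun _ => 0)) (r : ℤ)
    (α : ↥(a.fiber (eta R)) → ℤ) (β : X → ℤ) (hβ : ∀ ζ, δη ζ = r → β (a.fiberι (eta R) ζ) = α ζ)
    (hβk : ∀ ξ, β ξ ≠ 0 → δ ξ = r + 1 ∧ a ξ = eta R) (x : ↥(a.fiber (sp R))) :
    Cyc.spFun a (eta R) (sp R) δη δs r α x =
      Cyc.c1CapFun δ (Coh.structureModule X) β (choice a) (a.fiberι (sp R) x) := by
  classical
  set y := a.fiberι (sp R) x with hy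
  have hay : a y = sp R := Groth.L22.Cyc.fromSpec_fiber_apply a (sp R) x
  have hdy : δ y = δs x := by rw [hy, delta_fiber a hδ (sp R) hs, dR_sp, add_zero]
  have hterm : ∀ ξ, β ξ * Cyc.secDivFun δ (Coh.structureModule X) ξ (choice a ξ) y ≠ 0 →
      δ ξ = r + 1 ∧ a ξ = eta R ∧ ξ ⤳ y ∧ δ y + 1 = δ ξ := fun ξ h => by
    obtain ⟨h1, h2⟩ := mul_ne_zero_iff.1 h
    obtain ⟨h3, h4⟩ := Groth.L22.C1.secDivFun_ne_zero δ h2
    exact ⟨(hβk ξ h1).1, (hβk ξ h1).2, h3, h4⟩
  unfold Cyc.spFun
  by_cases hr : δs x = r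
  swap
  · rw [if_neg hr]
    refine (finsum_eq_zero_of_forall_eq_zero fun ξ => ?_).symm
    by_contra h
    obtain ⟨h1, -, -, h2⟩ := hterm ξ h
    omega
  rw [if_pos hr]
  let j : {ζ : ↥(a.fiber (eta R)) // δη ζ = r ∧ (a.fiberι (eta R) ζ) ⤳ y} → X :=
    fun ζ => a.fiberι (eta R) ζ.1
  have hj : Function.Injective j := fun _ _ h => Subtype.ext ((a.fiberι (eta R)).isEmbedding.injective h)
  rw [Cyc.c1CapFun]
  refine Eq.symm (((finsum_mem_univ _).symm.trans ((finsum_mem_inter_support_eq' _ Set.univ (Set.range j) fun ξ hξ =>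
    ⟨fun _ => ?_, fun _ => trivial⟩).trans (finsum_mem_range hj))).trans (finsum_congr fun ζ => ?_))
  · obtain ⟨h1, h2, h3, -⟩ := hterm ξ hξ
    obtain ⟨ζ, rfl⟩ : ξ ∈ Set.range (a.fiberι (eta R)) := (a.range_fiberι _).ge h2
    have h4 := delta_fiber a hδ (eta R) hη ζ
    rw [dR_eta] at h4
    exact ⟨⟨ζ, by omega, h3⟩, rfl⟩
  · have hξ : a (j ζ) = eta R := Groth.L22.Cyc.fromSpec_fiber_apply a (eta R) ζ.1
    have hd1 : δ y + 1 = δ (j ζ) := by
      rw [show δ (j ζ) = δη ζ.1 + dR R (eta R) from delta_fiber a hδ (eta R) hη ζ.1, dR_eta]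
      have := ζ.2.1
      omega
    rw [choice_eta a hξ, secDiv_eq a hd, Cyc.divFun, dif_pos ⟨ζ.2.2, hd1⟩, show β (j ζ) = α ζ.1 from hβ _ ζ.2.1,
      ← ordAt_pi a ζ.2.2 hd1 hay hξ hd]

end Dim

end Groth.L22.Sp
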