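import Groth.Agent.L22.Sp.Basic
import Groth.Agent.L22.Cyc.P1Sub
import Mathlib.RingTheory.Flat.TorsionFree
import Groth.Prelude.Def_FlatMod2

/-!
Specialisation of the cycle of a flat coherent module.
-/

set_option autoImplicit false
set_option linter.style.haveILetI false
set_option maxSynthPendingDepth 3
set_option backward.isDefEq.respectTransparency.types false
set_option backward.isDefEq.respectTransparency false

universe u

open CategoryTheory CategoryTheory.Limits AlgebraicGeometry IsLocalRing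

noncomputable section

namespace Groth.L22.Sp

open Groth.L22.IntMult (sheafFun_ne_zero mem_support_iff_nontrivial specializes_fromSpecStalk)

variable {R : Type u} [CommRing R] [IsDomain R] [IsDiscreteValuationRing R] {X : Scheme.{u}}
  (a : X ⟶ Spec (CommRingCat.of R))

theorem gS_unif_ne_zero (p : ↥(Spec (CommRingCat.of R))) : Groth.L22.Bundle.gS p (unif R) ≠ 0 := by
  letI : Algebra R ((Spec (CommRingCat.of R)).presheaf.stalk p) := (Groth.L22.Bundle.gS p).toAlgebra
  haveI : IsLocalization.AtPrime ((Spec (CommRingCat.of R)).presheaf.stalk p) p.asIdeal :=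
    StructureSheaf.IsLocalization.to_stalk (CommRingCat.of R) p
  exact IsLocalization.to_map_ne_zero_of_mem_nonZeroDivisors ((Spec (CommRingCat.of R)).presheaf.stalk p)
    p.asIdeal.primeCompl_le_nonZeroDivisors
    (mem_nonZeroDivisors_of_ne_zero (Classical.choose_spec (IsDiscreteValuationRing.exists_irreducible R)).ne_zero)

theorem pi_smul_injective {F : X.Modules} (hflat : FlatMod.IsFlatOver a F) (x : X) :
    Function.Injective fun m : F.presheaf.stalk x => pi a x • m := by
  letI := FlatMod.moduleStalkOver a F x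
  haveI : Module.Flat ((Spec (CommRingCat.of R)).presheaf.stalk (a x)) (F.presheaf.stalk x) := hflat x
  have h : IsSMulRegular (F.presheaf.stalk x) (Groth.L22.Bundle.gS (a x) (unif R)) :=
    Module.Flat.isSMulRegular_of_nonZeroDivisors (mem_nonZeroDivisors_of_ne_zero (gS_unif_ne_zero (a x)))
  intro m m' e
  refine h ?_
  show (a.stalkMap x).hom _ • m = (a.stalkMap x).hom _ • m'
  rw [← pi_eq]
  exact e

theorem length_stalk_eta (F : X.Modules) (ζ : ↥(a.fiber (eta R))) :
    Module.length ((a.fiber (eta R)).presheaf.stalk ζ)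
        (((Scheme.Modules.pullback (a.fiberι (eta R))).obj F).presheaf.stalk ζ) =
      Module.length (X.presheaf.stalk (a.fiberι (eta R) ζ)) (F.presheaf.stalk (a.fiberι (eta R) ζ)) :=
  length_stalk_pullback_of_bot (a.fiberι (eta R)) F ζ (ker_stalkMap_eta a ζ)

theorem nontrivial_eta (F : X.Modules) (ζ : ↥(a.fiber (eta R)))
    (h : Nontrivial (F.presheaf.stalk (a.fiberι (eta R) ζ))) :
    Nontrivial (((Scheme.Modules.pullback (a.fiberι (eta R))).obj F).presheaf.stalk ζ) :=
  not_subsingleton_iff_nontrivial.1 fun hs => not_subsingleton_iff_nontrivial.2 h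
    (Module.length_eq_zero_iff.1 ((length_stalk_eta a F ζ).symm.trans (Module.length_eq_zero_iff.2 hs)))

variable [IsLocallyNoetherian X]

theorem exists_generic (F : X.Modules) (hF : Coh.IsCoh F) (hflat : FlatMod.IsFlatOver a F) (y : X)
    (hnt : Nontrivial (F.presheaf.stalk y)) :
    ∃ ξ, ξ ⤳ y ∧ a ξ = eta R ∧ Nontrivial (F.presheaf.stalk ξ) := by
  haveI := hnt
  haveI := Groth.L15.Ref.finite_stalk hF y
  obtain ⟨q, hq⟩ := associatedPrimes.nonempty (X.presheaf.stalk y) (F.presheaf.stalk y)
  have hpi : pi a y ∉ q := fun hm => by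
    have : pi a y ∈ ⋃ p ∈ associatedPrimes (X.presheaf.stalk y) (F.presheaf.stalk y),
        (p : Set (X.presheaf.stalk y)) := Set.mem_biUnion hq hm
    rw [biUnion_associatedPrimes_eq_zero_divisors] at this
    obtain ⟨m, hm0, hm⟩ := this
    exact hm0 (pi_smul_injective a hflat y (hm.trans (smul_zero _).symm))
  let P : PrimeSpectrum (X.presheaf.stalk y) := ⟨q, IsAssociatedPrime.isPrime hq⟩
  have hps : P ∈ Module.support (X.presheaf.stalk y) (F.presheaf.stalk y) := by
    rw [Module.mem_support_iff_of_finite]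
    have h1 := IsAssociatedPrime.annihilator_le hq
    rwa [Submodule.annihilator_top] at h1
  have h := specializes_fromSpecStalk P
  refine ⟨X.fromSpecStalk y P, h, (point_cases R _).resolve_right fun e => hpi ?_,
    (mem_support_iff_nontrivial hF P).1 hps⟩
  have h0 := (residue_pi_eq_zero_iff a _).2 e
  rw [← pi_specializes a h, ← Groth.L22.Cyc.specMap_eq_residue] at h0
  have h2 : pi a y ∈ (Groth.L22.IntMult.ptPrime h).asIdeal := by
    rw [Groth.L22.IntMult.ptPrime_asIdeal]
    exact h0
  rwa [← Groth.L22.IntMult.eq_ptPrime rfl h] at h2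

variable {δη : ↥(a.fiber (eta R)) → ℤ} {δs : ↥(a.fiber (sp R)) → ℤ}
  (hη : Cyc.DeltaCompat (a.fiberToSpecResidueField (eta R)) δη (fun _ => 0))
  (hs : Cyc.DeltaCompat (a.fiberToSpecResidueField (sp R)) δs (fun _ => 0))
  {r : ℤ} {F : X.Modules} (hF : Coh.IsCoh F) (hflat : FlatMod.IsFlatOver a F)
  (hdim : ∀ ζ, Nontrivial (((Scheme.Modules.pullback (a.fiberι (eta R))).obj F).presheaf.stalk ζ) → δη ζ ≤ r)
  [LocallyOfFiniteType a]

include hη hs hF hflat hdim in
theorem spFun_sheafFun :
    (∀ x, Nontrivial (((Scheme.Modules.pullback (a.fiberι (sp R))).obj F).presheaf.stalk x) → δs x ≤ r) ∧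
      Cyc.spFun a (eta R) (sp R) δη δs r (Cyc.sheafFun δη r ((Scheme.Modules.pullback (a.fiberι (eta R))).obj F)) =
        Cyc.sheafFun δs r ((Scheme.Modules.pullback (a.fiberι (sp R))).obj F) := by
  obtain ⟨δ, hset, hδ⟩ := Groth.L22.Cyc.exists_setup a (isSetup_base R)
  have hd := hset.2.2
  haveI := isClosedImmersion_fiberι a
  have heta : ∀ ξ, a ξ = eta R → Nontrivial (F.presheaf.stalk ξ) → δ ξ ≤ r + 1 := fun ξ h hnt => by
    obtain ⟨ζ, rfl⟩ : ξ ∈ Set.range (a.fiberι (eta R)) := (a.range_fiberι _).ge h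
    have h1 := hdim ζ (nontrivial_eta a F ζ hnt)
    rw [delta_fiber a hδ (eta R) hη, dR_eta]
    omega
  have hsp : ∀ y, a y = sp R → Nontrivial (F.presheaf.stalk y) → δ y ≤ r := fun y hy hnt => by
    obtain ⟨ξ, h, hξ, hn⟩ := exists_generic a F hF hflat y hnt
    have h1 := (hd ξ y h fun e => sp_ne_eta R (by rw [← hy, ← hξ, e])).1
    have h2 := heta ξ hξ hn
    omega
  have hall : ∀ y, Nontrivial (F.presheaf.stalk y) → δ y ≤ r + 1 := fun y hnt =>
    (point_cases R (a y)).elim (fun h => heta y h hnt) fun h => (hsp y h hnt).trans (by omega)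
  have hδs : (fun z => δ (a.fiberι (sp R) z)) = δs :=
    funext fun z => by rw [delta_fiber a hδ (sp R) hs, dR_sp, add_zero]
  refine ⟨fun x hx => ?_, funext fun x => ?_⟩
  · have := hsp _ (Groth.L22.Cyc.fromSpec_fiber_apply a (sp R) x) (Groth.L22.P1Sub.nontrivial_of_pullback _ hx)
    exact (congrFun hδs x).ge.trans this
  rw [spFun_eq a hδ hd hη hs r _ (Cyc.sheafFun δ (r + 1) F) (fun ζ hζ => ?_) (fun ξ hξ => ?_) x]
  · rw [show Cyc.c1CapFun δ (Coh.structureModule X) (Cyc.sheafFun δ (r + 1) F) (choice a) (a.fiberι (sp R) x) = _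
      from Groth.L22.C1.gysin_sheafFun (a.fiberι (sp R)) hd (Groth.L18.Ample.isInvertible_structureModule X)
        (sec a) (isZeroSchemeOf a) r F hF hall (fun y t f ht hf m m' hm => ?_) _ x, hδs]
    obtain ⟨c, hc⟩ := Submodule.mem_span_singleton.1
      ((isGen_oneGerm (X := X) y).ge (Submodule.mem_top : t ∈ ⊤))
    have hpi : pi a y = f * c := (isGen_oneGerm y).injective (Groth.L18.Ample.isInvertible_structureModule X)
      (show pi a y • Groth.L22.oneGerm y = (f * c) • Groth.L22.oneGerm y by rw [← germ_sec, hf, mul_smul, hc])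
    refine pi_smul_injective a hflat y ?_
    show pi a y • m = pi a y • m'
    rw [hpi, mul_comm, mul_smul, mul_smul, show f • m = f • m' from hm]
  · unfold Cyc.sheafFun
    rw [delta_fiber a hδ (eta R) hη, dR_eta, hζ, if_pos rfl, if_pos rfl, length_stalk_eta]
  · obtain ⟨h1, h2⟩ := sheafFun_ne_zero hξ
    refine ⟨h1, (point_cases R (a ξ)).resolve_right fun e => ?_⟩
    have := hsp ξ e h2
    omega

end Groth.L22.Sp
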